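import Groth.Agent.PerfB.FibreZero
import Groth.Agent.Ega4B.RpushCompare
import Groth.Agent.Ega3B.PullTensor
import Groth.Agent.Cohder.RelPCMon
import Groth.Agent.Cohder.KZBasic
import Groth.Agent.S1118
import Groth.Agent.PerfA.QCohD
import Groth.Agent.Ega2.QCohLocal
import Groth.Agent.PerfA.PerfLocal
import Groth.Agent.Flat2C.BlowProper
import Groth.Agent.Flat2C.Admissible
import Groth.Prelude.Def_SGA6
import Groth.Prelude.Def_RegImm

/-!
# `f_* f^* = 1` on perfect complexes when `Rf_* O = O`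
-/

set_option autoImplicit false

universe u

open CategoryTheory CategoryTheory.Limits AlgebraicGeometry Pretriangulated

attribute [local instance] HasDerivedCategory.standard

namespace K297.BlowProj

open Groth.Agent

variable {X Y : Scheme.{u}}

/-- `Rf_* O_X = O_Y` from the vanishing of the higher direct images and the unit isomorphism. -/
theorem nonempty_rpush_structure (f : X ⟶ Y) [DCoh.HasRpush f]
    (h1 : IsIso ((Scheme.Modules.pullbackPushforwardAdjunction f).unit.app (Coh.structureModule Y)))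
    (h2 : ∀ i : ℕ, 1 ≤ i → IsZero ((Coh.RpushAb f i).obj (Coh.toAb (Coh.structureModule X)))) :
    Nonempty ((DCoh.Rpush f).obj (DCoh.inD X (Coh.structureModule X)) ≅
      DCoh.inD Y (Coh.structureModule Y)) := by
  have hI : HasInjectiveResolutions X.Modules := inferInstance
  obtain ⟨e⟩ := PerfB.FibreZero.nonempty_Rpush_inD f (Coh.structureModule X)
    (fun i hi => (Ega4B.RpushCompare.isZero_rpush_iff f _ i).2 (h2 i hi))
  obtain ⟨u⟩ : Nonempty ((Scheme.Modules.pullback f).obj (Coh.structureModule Y) ≅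
    Coh.structureModule X) := Ega3B.PullTensor.nonempty_pullUnitIso f
  exact ⟨e ≪≫ (DerivedCategory.singleFunctor Y.Modules 0).mapIso
    ((Scheme.Modules.pushforward f).mapIso u.symm ≪≫
      (asIso ((Scheme.Modules.pullbackPushforwardAdjunction f).unit.app
        (Coh.structureModule Y))).symm)⟩

/-- `Rf_* Lf^* K = K` if `Rf_* O_X = O_Y`. -/
theorem nonempty_push_pull (f : X ⟶ Y) [QuasiCompact f] [QuasiSeparated f] [DCoh.HasRpush f]
    [DCoh.HasLpull f]
    (h : Nonempty ((DCoh.Rpush f).obj (DCoh.inD X (Coh.structureModule X)) ≅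
      DCoh.inD Y (Coh.structureModule Y))) (K : DCoh.D Y) (hK : DCoh.IsQCohD K) :
    Nonempty ((DCoh.Rpush f).obj ((DCoh.Lpull f).obj K) ≅ K) := by
  obtain ⟨e⟩ := h
  let K' : CochainComplex Y.Modules ℤ := DerivedCategory.Q.objPreimage K
  let eK : DCoh.toD Y K' ≅ K := DerivedCategory.Q.objObjPreimageIso K
  let M : CochainComplex X.Modules ℤ := DerivedCategory.Q.objPreimage ((DCoh.Lpull f).obj K)
  let eM : DCoh.toD X M ≅ (DCoh.Lpull f).obj K := DerivedCategory.Q.objObjPreimageIso _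
  have h1 := PerfC.DTens.hasLTensorCx K'
  have h2 := PerfC.DTens.hasLTensorCx M
  have hK' : DCoh.IsQCohD (DCoh.toD Y K') := PerfA.QCohD.isQCohD_of_iso eK.symm hK
  obtain ⟨p⟩ := S1118.result f (DCoh.inD X (Coh.structureModule X))
    (PerfA.QCohD.isQCohD_inD _ (Ega2.QCohLocal.isQCoh_structureModule X)) K' hK' M
    ⟨eM ≪≫ (DCoh.Lpull f).mapIso eK.symm⟩
  obtain ⟨a⟩ := Cohder.RelPCMon.nonempty_unit K'
  obtain ⟨b⟩ := Cohder.RelPCMon.nonempty_unit M
  exact ⟨(DCoh.Rpush f).mapIso (eM.symm ≪≫ b.symm) ≪≫ p.symm ≪≫ (DCoh.LTensorCx K').mapIso e ≪≫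
    a ≪≫ eK⟩

/-- `f_* f^* = 1` on `K^•` if `Rf_* O_X = O_Y`. -/
theorem mapTr_push_pull (f : X ⟶ Y) [QuasiCompact f] [QuasiSeparated f]
    [DCoh.HasLpull f] [(DCoh.Lpull f).CommShift ℤ] [(DCoh.Lpull f).IsTriangulated]
    (hpull : ∀ K : DCoh.D Y, DCoh.IsPerfect K → DCoh.IsPerfect ((DCoh.Lpull f).obj K))
    [DCoh.HasRpush f] [(DCoh.Rpush f).CommShift ℤ] [(DCoh.Rpush f).IsTriangulated]
    (hpush : ∀ K : DCoh.D X, DCoh.IsPerfect K → DCoh.IsPerfect ((DCoh.Rpush f).obj K))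
    (h : Nonempty ((DCoh.Rpush f).obj (DCoh.inD X (Coh.structureModule X)) ≅
      DCoh.inD Y (Coh.structureModule Y))) (x : SGA6.Kperf Y) :
    SGA6.mapTr (DCoh.Rpush f) (SGA6.perfP X) (SGA6.perfP Y) hpush
      (SGA6.mapTr (DCoh.Lpull f) (SGA6.perfP Y) (SGA6.perfP X) hpull x) = x := by
  have key : (SGA6.mapTr (DCoh.Rpush f) (SGA6.perfP X) (SGA6.perfP Y) hpush).comp
      (SGA6.mapTr (DCoh.Lpull f) (SGA6.perfP Y) (SGA6.perfP X) hpull) = AddMonoidHom.id _ := by
    refine Cohder.KZBasic.hom_ext_tr _ fun C hC => ?_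
    change SGA6.mapTr _ _ _ hpush (SGA6.mapTr _ _ _ hpull _) = KZero.clTr (SGA6.perfP Y) C
    obtain ⟨e⟩ := nonempty_push_pull f h C (PerfA.QCohD.isQCohD_of_isPerfect C hC)
    have e1 : SGA6.mapTr (DCoh.Lpull f) (SGA6.perfP Y) (SGA6.perfP X) hpull
        (KZero.clTr (SGA6.perfP Y) C) = KZero.clTr (SGA6.perfP X) ((DCoh.Lpull f).obj C) := by
      rw [Cohder.KZBasic.clTr_of (SGA6.perfP Y) hC, Cohder.KZBasic.clTr_of (SGA6.perfP X) (hpull C hC)]
      rfl
    have e2 : SGA6.mapTr (DCoh.Rpush f) (SGA6.perfP X) (SGA6.perfP Y) hpush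
        (KZero.clTr (SGA6.perfP X) ((DCoh.Lpull f).obj C)) =
        KZero.clTr (SGA6.perfP Y) ((DCoh.Rpush f).obj ((DCoh.Lpull f).obj C)) := by
      rw [Cohder.KZBasic.clTr_of (SGA6.perfP X) (hpull C hC),
        Cohder.KZBasic.clTr_of (SGA6.perfP Y) (hpush _ (hpull C hC))]
      rfl
    rw [e1, e2]
    exact Cohder.KZBasic.clTr_iso _ (fun Z hZ => PerfA.PerfLocal.isPerfect_of_isZero hZ) e
      (hpush _ (hpull C hC)) hC
  exact DFunLike.congr_fun key x

/-- The ideal of a Koszul-regular closed immersion is of finite type. -/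
theorem isFiniteTypeIdeal_ker (k : RegImm.Kind) (i : Y ⟶ X) [IsClosedImmersion i]
    (hi : RegImm.IsRegularImmersion k i) : BlowUp.IsFiniteTypeIdeal i.ker := by
  refine Flat2C.Admissible.isFT_of_cover _ fun x => ?_
  by_cases hx : x ∈ Set.range i
  · obtain ⟨y, rfl⟩ := hx
    obtain ⟨U, hU, -, rs, -, h⟩ := hi.2 y
    refine ⟨U, hU, ?_⟩
    rw [Scheme.Hom.ker_apply, h]
    classical
    exact ⟨rs.toFinset, by rw [Ideal.ofList]; congr 1; ext; simp⟩
  · have hcl : IsClosed (Set.range i) := i.isClosedEmbedding.isClosed_range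
    obtain ⟨V, hV, hxV, hVW⟩ := exists_isAffineOpen_mem_and_subset (U := ⟨(Set.range i)ᶜ, hcl.isOpen_compl⟩) (x := x) hx
    refine ⟨⟨V, hV⟩, hxV, ?_⟩
    rw [Flat2C.Admissible.ideal_eq_top_of_disjoint i.ker ⟨V, hV⟩ ?_]
    · exact ⟨{1}, by simp⟩
    · rw [Set.disjoint_left]
      intro z hz hzV
      rw [Scheme.Hom.support_ker] at hz
      rw [hcl.closure_eq] at hz
      exact hVW hzV hz

end K297.BlowProj
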